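import Groth.Agent.Duality.FlatBCPair.HomAffine
import Groth.Agent.CohBase.FiniteBC.Main
import Groth.Agent.DualMod.RepRel
import Groth.Agent.Duality.RDualPairs

/-!
# Top cohomology after an affine change of base

For `X` proper over `A` with fibres of dimension `≤ d`, an `A`-algebra `B` and `p : X' ⟶ X` the base
change, `B ⊗ H^d(X, M) = H^d(X, p_* p^* M)`, and `p_* p^* M` has the universal property of `B ⊗ M`.
-/

set_option autoImplicit false
set_option backward.isDefEq.respectTransparency false
set_option linter.style.haveILetI false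
set_option maxHeartbeats 1000000
set_option synthInstance.maxHeartbeats 400000

universe u

open CategoryTheory CategoryTheory.Limits AlgebraicGeometry Opposite TopologicalSpace
open scoped TensorProduct
open Groth.CohBase.FiniteBC (etaEps smulHom smulHom_comp_eta exists_sections_equiv)

noncomputable section

namespace Groth.Duality.FlatBCPair

variable {A : Type u} [CommRing A] {X : Scheme.{u}} [X.Over (Spec (CommRingCat.of A))]

/-- Functionals with values in any module are representable. -/
theorem exists_pairW [IsProper (X ↘ Spec (CommRingCat.of A))] {n : ℕ}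
    (hd : ∀ P, topologicalKrullDim ↥((X ↘ Spec (CommRingCat.of A)).fiber P) ≤ n)
    (W : Type u) [AddCommGroup W] [Module A W] :
    ∃ (N : X.Modules) (γ : Coh.HH X N n →ₗ[A] W), Coh.IsQCoh N ∧
      ∀ F : X.Modules, Coh.IsQCoh F →
        Function.Bijective fun φ : F ⟶ N => γ.comp (Canon.HHlin A φ n) := by
  haveI := DualMod.preservesColimits_HFA A hd
  let F : (QCohCat.QCoh X)ᵒᵖ ⥤ Type u := (DualMod.HFA A X n).op ⋙ yoneda.obj (ModuleCat.of A W)
  haveI : PreservesLimitsOfSize.{u, u} (DualMod.HFA A X n).op := preservesLimits_op _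
  haveI : PreservesLimitsOfSize.{u, u} F := inferInstance
  haveI : F.IsRepresentable := (Groth.Agent.S0919.result F).2 inferInstance
  let R := F.representableBy
  let N := F.reprX
  let t : Coh.HH X N.obj n →ₗ[A] W :=
    ModuleCat.Hom.hom (show (DualMod.HFA A X n).obj N ⟶ ModuleCat.of A W from R.homEquiv (𝟙 N))
  refine ⟨N.obj, t, N.2, fun M hM => ?_⟩
  let M' : QCohCat.QCoh X := ⟨M, hM⟩
  let e : (M ⟶ N.obj) ≃ (Coh.HH X M n →ₗ[A] W) :=
    { toFun := fun φ => ModuleCat.Hom.hom (show (DualMod.HFA A X n).obj M' ⟶ ModuleCat.of A W from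
        R.homEquiv (ObjectProperty.homMk φ : M' ⟶ N))
      invFun := fun l => (R.homEquiv.symm (show F.obj (op M') from ModuleCat.ofHom l)).hom
      left_inv := fun φ => congrArg (fun f : M' ⟶ N => f.hom)
        (R.homEquiv.symm_apply_apply (ObjectProperty.homMk φ : M' ⟶ N))
      right_inv := fun l => by
        change ModuleCat.Hom.hom (show (DualMod.HFA A X n).obj M' ⟶ ModuleCat.of A W from
          R.homEquiv (R.homEquiv.symm (show F.obj (op M') from ModuleCat.ofHom l))) = l
        rw [Equiv.apply_symm_apply]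
        rfl }
  have he : (fun φ : M ⟶ N.obj => t.comp (Canon.HHlin A φ n)) = e := funext fun φ => by
    refine LinearMap.ext fun x => ?_
    change t (CohC3.hmap A φ n x) = ModuleCat.Hom.hom
      (show (DualMod.HFA A X n).obj M' ⟶ ModuleCat.of A W from
        R.homEquiv (ObjectProperty.homMk φ : M' ⟶ N)) x
    rw [R.homEquiv_eq]
    rfl
  rw [he]
  exact e.bijective

variable {B : Type u} [CommRing B] [Algebra A B] {X' : Scheme.{u}}
  [X'.Over (Spec (CommRingCat.of B))] {p : X' ⟶ X}
  (sq : IsPullback p (X' ↘ Spec (CommRingCat.of B)) (X ↘ Spec (CommRingCat.of A))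
    (Spec.map (CommRingCat.ofHom (algebraMap A B))))

variable (p) in
/-- `p_* p^* M`. -/
abbrev TT (M : X.Modules) : X.Modules :=
  (Scheme.Modules.pushforward p).obj ((Scheme.Modules.pullback p).obj M)

variable (p) in
/-- `m ↦ b ⊗ m`. -/
abbrev eps (M : X.Modules) (b : B) : M ⟶ TT p M :=
  etaEps (X' ↘ Spec (CommRingCat.of B)) p M b

theorem eps_add (M : X.Modules) (b c : B) : eps p M (b + c) = eps p M b + eps p M c := by
  simp only [eps, etaEps, map_add, Functor.map_add, Preadditive.comp_add]

theorem eps_natural {M N : X.Modules} (φ : M ⟶ N) (b : B) :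
    φ ≫ eps p N b = eps p M b ≫ (Scheme.Modules.pushforward p).map ((Scheme.Modules.pullback p).map φ) := by
  have h := (Scheme.Modules.pullbackPushforwardAdjunction p).unit.naturality φ
  simp only [Functor.id_map, Functor.comp_map] at h
  simp only [eps, etaEps]
  rw [← Category.assoc, h, Category.assoc, Category.assoc, ← Functor.map_comp, ← Functor.map_comp]
  exact congrArg (fun t => _ ≫ (Scheme.Modules.pushforward p).map t)
    (CohC3.smulMod_naturality (A := B) ((Scheme.Modules.pullback p).map φ) b)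

/-- Cohomology is additive in the morphism. -/
theorem hmap_add' {M N : X.Modules} (φ ψ : M ⟶ N) (n : ℕ) (x : Coh.HH X M n) :
    CohC3.hmap A (φ + ψ) n x = CohC3.hmap A φ n x + CohC3.hmap A ψ n x := by
  change ((Sheaf.functorH (Opens.grothendieckTopology X.toTopCat) n).map
    ((CohBase.toAbF X).map (φ + ψ))).hom x = _
  rw [Functor.map_add, Functor.map_add]
  rfl

/-- The `A`-action on morphisms. -/
theorem hmap_smulMod_comp {M N : X.Modules} (a : A) (φ : M ⟶ N) (n : ℕ) (x : Coh.HH X M n) :
    CohC3.hmap A (Formal.smulMod A M a ≫ φ) n x = CohC3.hmap A φ n (a • x) := by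
  rw [← CohC3.hmap_comp (A := A), CohC3.hmap_smulMod]

include sq

theorem eps_smul (M : X.Modules) (a : A) (b : B) :
    Formal.smulMod A M a ≫ eps p M b = eps p M (algebraMap A B a * b) :=
  smulHom_comp_eta sq M a b

/-- The universal property of `p_* p^* M`. -/
theorem exists_desc {M : X.Modules} [M.IsQuasicoherent] {N : X.Modules} (h : B → (M ⟶ N))
    (hadd : ∀ b c, h (b + c) = h b + h c)
    (hsmul : ∀ (a : A) b, h (algebraMap A B a * b) = Formal.smulMod A M a ≫ h b) :
    ∃! g : TT p M ⟶ N, ∀ b, eps p M b ≫ g = h b := by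
  let σ := X ↘ Spec (CommRingCat.of A)
  have key : ∀ (U : X.Opens) (hU : IsAffineOpen U),
      ∃ (f : Γ(TT p M, U) →+ Γ(N, U)),
        (∀ b m, f ((eps p M b).app U m) = (h b).app U m) ∧
        ∀ f' : Γ(TT p M, U) →+ Γ(N, U), (∀ b m, f' ((eps p M b).app U m) = (h b).app U m) → f' = f := by
    intro U hU
    letI : Module A Γ(M, U) :=
      Module.compHom _ ((σ.appLE ⊤ U le_top).hom.comp (Scheme.ΓSpecIso (CommRingCat.of A)).inv.hom)
    obtain ⟨Φ, hΦ⟩ := exists_sections_equiv sq M hU
    let f₀ : B ⊗[A] Γ(M, U) →+ Γ(N, U) :=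
      TensorProduct.liftAddHom
        (AddMonoidHom.mk' (fun b => ((h b).app U).hom) fun b c => AddMonoidHom.ext fun m => by
          rw [hadd]; rfl)
        fun a b m => by
          change (h (a • b)).app U m = (h b).app U (a • m)
          rw [Algebra.smul_def, hsmul]
          rfl
    refine ⟨f₀.comp Φ.symm.toAddMonoidHom, fun b m => ?_, fun f' hf' => ?_⟩
    · change f₀ (Φ.symm ((eps p M b).app U m)) = _
      rw [show (eps p M b).app U m = Φ (b ⊗ₜ m) from (hΦ b m).symm, Φ.symm_apply_apply]
      rfl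
    · refine AddMonoidHom.ext fun t => ?_
      obtain ⟨z, rfl⟩ := Φ.surjective t
      change f' (Φ z) = f₀ (Φ.symm (Φ z))
      rw [Φ.symm_apply_apply]
      induction z using TensorProduct.induction_on with
      | zero => simp only [map_zero]
      | tmul b m => rw [hΦ]; exact hf' b m
      | add x y hx hy => rw [map_add, map_add, map_add, hx, hy]
  choose f hf hu using key
  have hspan : ∀ (U : X.Opens) (hU : IsAffineOpen U) (P : Γ(TT p M, U) → Prop), P 0 →
      (∀ (b : B) (m : Γ(M, U)), P ((eps p M b).app U m)) → (∀ x y, P x → P y → P (x + y)) → ∀ t, P t := by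
    intro U hU P h0 h1 h2 t
    letI : Module A Γ(M, U) :=
      Module.compHom _ ((σ.appLE ⊤ U le_top).hom.comp (Scheme.ΓSpecIso (CommRingCat.of A)).inv.hom)
    obtain ⟨Φ, hΦ⟩ := exists_sections_equiv sq M hU
    obtain ⟨z, rfl⟩ := Φ.surjective t
    induction z using TensorProduct.induction_on with
    | zero => rw [map_zero]; exact h0
    | tmul b m => rw [hΦ]; exact h1 b m
    | add x y hx hy => rw [map_add]; exact h2 _ _ hx hy
  obtain ⟨g, hg⟩ := exists_hom_of_affine f (fun U D hU hD hle x => by
      refine hspan U hU (fun x => f D hD (PicAux.res _ hle x) = PicAux.res N hle (f U hU x))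
        ?_ ?_ ?_ x
      · simp only [PicAux.res, map_zero]
      · intro b m
        rw [hf U hU, ← PicAux.app_res, ← PicAux.app_res, hf D hD]
      · intro x y hx hy
        simp only [PicAux.res, map_add] at hx hy ⊢
        rw [hx, hy])
    (fun U hU r x => by
      refine hspan U hU (fun x => f U hU (r • x) = r • f U hU x) ?_ ?_ ?_ x
      · simp
      · intro b m
        rw [hf U hU, ← Scheme.Modules.Hom.app_smul, hf U hU, Scheme.Modules.Hom.app_smul]
      · intro x y hx hy
        rw [smul_add, map_add, map_add, hx, hy, smul_add])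
  refine ⟨g, fun b => KTheory.ExtFilt.hom_ext_affine fun U hU m => ?_, fun g' hg' =>
    KTheory.ExtFilt.hom_ext_affine fun U hU t => ?_⟩
  · change g.app U ((eps p M b).app U m) = _
    rw [hg U hU, hf U hU]
  · rw [hg U hU]
    exact congr($(hu U hU ((g'.app U).hom) fun b m => congr(($(hg' b)).app U m)) t)

variable [IsProper (X ↘ Spec (CommRingCat.of A))]

omit [IsProper (X ↘ Spec (CommRingCat.of A))] in
/-- `B ⊗ H^d(X, M) → H^d(X, p_* p^* M)`. -/
theorem exists_L (M : X.Modules) (d : ℕ) :
    ∃ L : B ⊗[A] Coh.HH X M d →ₗ[A] Coh.HH X (TT p M) d,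
      ∀ b x, L (b ⊗ₜ x) = CohC3.hmap A (eps p M b) d x := by
  let l : B →ₗ[A] Coh.HH X M d →ₗ[A] Coh.HH X (TT p M) d :=
    { toFun := fun b => CohC3.hmap A (eps p M b) d
      map_add' := fun b c => LinearMap.ext fun x => by
        rw [eps_add, hmap_add']
        rfl
      map_smul' := fun a b => LinearMap.ext fun x => by
        rw [Algebra.smul_def, ← eps_smul sq, hmap_smulMod_comp, map_smul]
        rfl }
  exact ⟨TensorProduct.lift l, fun b x => rfl⟩

/-- `B ⊗ H^d(X, M) = H^d(X, p_* p^* M)` in the top degree. -/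
theorem bijective_L {d : ℕ}
    (hd : ∀ P, topologicalKrullDim ↥((X ↘ Spec (CommRingCat.of A)).fiber P) ≤ d)
    (M : X.Modules) [M.IsQuasicoherent]
    (L : B ⊗[A] Coh.HH X M d →ₗ[A] Coh.HH X (TT p M) d)
    (hL : ∀ b x, L (b ⊗ₜ x) = CohC3.hmap A (eps p M b) d x) : Function.Bijective L := by
  haveI : IsAffineHom p := MorphismProperty.of_isPullback sq.flip inferInstance
  haveI := QCohMod.isQCoh_pullback_obj p M
  have hT : Coh.IsQCoh (TT p M) :=
    QCohMod.isQCoh_pushforward (Y := X) ((Scheme.Modules.pullback p).obj M) p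
  have hM : Coh.IsQCoh M := ‹M.IsQuasicoherent›
  constructor
  · obtain ⟨N, γ, hN, hb⟩ := exists_pairW hd (B ⊗[A] Coh.HH X M d)
    choose h hh using fun b : B => (hb M hM).2 (TensorProduct.mk A B (Coh.HH X M d) b)
    have hh' : ∀ b x, γ (CohC3.hmap A (h b) d x) = b ⊗ₜ x := fun b x => LinearMap.congr_fun (hh b) x
    obtain ⟨g, hg, -⟩ := exists_desc sq h (fun b c => (hb M hM).1 (LinearMap.ext fun x => by
        change γ (CohC3.hmap A (h (b + c)) d x) = γ (CohC3.hmap A (h b + h c) d x)
        rw [hmap_add', map_add, hh', hh', hh', TensorProduct.add_tmul]))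
      (fun a b => (hb M hM).1 (LinearMap.ext fun x => by
        change γ (CohC3.hmap A (h (algebraMap A B a * b)) d x) =
          γ (CohC3.hmap A (Formal.smulMod A M a ≫ h b) d x)
        rw [hmap_smulMod_comp, hh', hh', ← Algebra.smul_def, TensorProduct.smul_tmul]))
    have : (γ.comp (Canon.HHlin A g d)).comp L = LinearMap.id := TensorProduct.ext' fun b x => by
      change γ (CohC3.hmap A g d (L (b ⊗ₜ x))) = _
      rw [hL, CohC3.hmap_comp (A := A), hg, hh']
      rfl
    exact Function.LeftInverse.injective (g := γ.comp (Canon.HHlin A g d)) fun z =>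
      LinearMap.congr_fun this z
  · rw [← LinearMap.range_eq_top]
    let q := (LinearMap.range L).mkQ
    obtain ⟨N, γ, hN, hb⟩ := exists_pairW hd (Coh.HH X (TT p M) d ⧸ LinearMap.range L)
    obtain ⟨φ, hφ⟩ := (hb _ hT).2 q
    have h0 : ∀ b : B, eps p M b ≫ φ = 0 := fun b => (hb M hM).1 (LinearMap.ext fun x => by
      change γ (CohC3.hmap A (eps p M b ≫ φ) d x) = γ (CohC3.hmap A (0 : M ⟶ N) d x)
      rw [← CohC3.hmap_comp (A := A), CohC3.hmap_zero, map_zero]
      exact (LinearMap.congr_fun hφ _).trans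
        ((Submodule.Quotient.mk_eq_zero _).2 ⟨b ⊗ₜ x, hL b x⟩))
    have hφ0 : φ = 0 := (exists_desc sq (fun _ : B => (0 : M ⟶ N)) (fun _ _ => (add_zero _).symm)
      (fun _ _ => comp_zero.symm)).unique h0 (fun b : B => comp_zero)
    refine eq_top_iff.2 fun y _ => (Submodule.Quotient.mk_eq_zero _).1 ?_
    refine (LinearMap.congr_fun hφ y).symm.trans ?_
    change γ (CohC3.hmap A φ d y) = 0
    rw [hφ0, CohC3.hmap_zero, map_zero]

end Groth.Duality.FlatBCPair
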