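import Groth.Agent.KTheory.ExtFiltSheaf
import Mathlib.AlgebraicGeometry.Sites.SmallAffineZariski

/-!
# Morphisms of modules given on affine opens
-/

set_option autoImplicit false
set_option backward.isDefEq.respectTransparency false

universe u

open CategoryTheory CategoryTheory.Limits AlgebraicGeometry Opposite TopologicalSpace
open Groth.PicAux

noncomputable section

namespace Groth.Duality.FlatBCPair

variable {X : Scheme.{u}} {A B : X.Modules}

/-- A linear family of maps on affine opens, compatible with restriction, is a morphism. -/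
theorem exists_hom_of_affine (f : ∀ U : X.Opens, IsAffineOpen U → (Γ(A, U) →+ Γ(B, U)))
    (hres : ∀ (U D : X.Opens) (hU : IsAffineOpen U) (hD : IsAffineOpen D) (h : D ≤ U) (x : Γ(A, U)),
      f D hD (res A h x) = res B h (f U hU x))
    (hsmul : ∀ (U : X.Opens) (hU : IsAffineOpen U) (r : Γ(X, U)) (x : Γ(A, U)),
      f U hU (r • x) = r • f U hU x) :
    ∃ ψ : A ⟶ B, ∀ (U : X.Opens) (hU : IsAffineOpen U) (x : Γ(A, U)), ψ.app U x = f U hU x := by
  let G := Scheme.AffineZariskiSite.toOpensFunctor X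
  let Bs : TopCat.Sheaf AddCommGrpCat.{u} X.carrier :=
    (SheafOfModules.toSheaf X.ringCatSheaf).obj B
  let θ : G.op ⋙ A.presheaf ⟶ G.op ⋙ Bs.obj :=
    { app := fun U => AddCommGrpCat.ofHom (f U.unop.1 U.unop.2)
      naturality := fun U V i => AddCommGrpCat.hom_ext (AddMonoidHom.ext fun x =>
        hres U.unop.1 V.unop.1 U.unop.2 V.unop.2 (Scheme.AffineZariskiSite.toOpens_mono i.unop.le) x) }
  let g : A.presheaf ⟶ Bs.obj :=
    Functor.IsCoverDense.restrictHomEquivHom (G := G) (K := Opens.grothendieckTopology X)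
      (ℱ := A.presheaf) (ℱ' := Bs) θ
  have hg : G.op.whiskerLeft g = θ :=
    (Functor.IsCoverDense.restrictHomEquivHom (G := G) (K := Opens.grothendieckTopology X)
      (ℱ := A.presheaf) (ℱ' := Bs)).symm_apply_apply _
  have happ : ∀ (U : X.Opens) (hU : IsAffineOpen U) (x : Γ(A, U)),
      (g.app (op U)).hom x = f U hU x := fun U hU x =>
    congr(($(NatTrans.congr_app hg (op ⟨U, hU⟩))).hom x)
  have hnat : ∀ {V W : X.Opens} (h : W ≤ V) (x : Γ(A, V)),
      (g.app (op W)).hom (res A h x) = res B h ((g.app (op V)).hom x) := fun h x =>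
    congr(($(g.naturality (homOfLE h).op)).hom x)
  refine ⟨⟨PresheafOfModules.homMk g fun V r x => ?_⟩, happ⟩
  refine res_ext (fun W : {W : X.affineOpens // W.1 ≤ V.unop} => W.1.1) (fun W => W.2)
    (fun z hz => ?_) fun W => ?_
  · obtain ⟨_, ⟨W, hW, rfl⟩, hzW, hWV⟩ :=
      X.isBasis_affineOpens.exists_subset_of_mem_open hz V.unop.2
    exact Opens.mem_iSup.2 ⟨⟨⟨W, hW⟩, hWV⟩, hzW⟩
  · refine (hnat W.2 _).symm.trans ?_
    refine (congrArg ((g.app (op W.1.1)).hom) (res_smul (M := A) W.2 r x)).trans ?_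
    refine Eq.trans ?_ (res_smul (M := B) W.2 r _).symm
    refine (happ _ W.1.2 _).trans ((hsmul _ W.1.2 _ _).trans ?_)
    exact congrArg _ ((happ _ W.1.2 _).symm.trans (hnat W.2 x))

end Groth.Duality.FlatBCPair
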