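import Groth.Agent.Duality.FlatBCPair.Basic
import Groth.Agent.CohC3.ProperHelpers
import Groth.Agent.PnCoh.Finite
import Groth.Agent.FibreDim.BaseChange
import Groth.Agent.Ega2Proj.SpanOn
import Groth.Agent.Ega2Proj.TwistExtend
import Mathlib.RingTheory.Flat.EquationalCriterion

/-!
# Flat base change of dualizing pairs
-/

set_option autoImplicit false
set_option backward.isDefEq.respectTransparency false
set_option linter.style.haveILetI false
set_option maxHeartbeats 1000000
set_option synthInstance.maxHeartbeats 400000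

universe u

open CategoryTheory CategoryTheory.Limits AlgebraicGeometry Opposite TopologicalSpace
open scoped TensorProduct
open Groth.CohBase.FiniteBC (etaEps exists_sections_equiv pushHA pushHA_natural)

noncomputable section

namespace Groth.Duality.FlatBCPair

/-- For an affine morphism the counit on a quasi-coherent module is an epimorphism. -/
theorem epi_counit_affine {Y Z : Scheme.{u}} (f : Y ⟶ Z) [IsAffineHom f] (F : Y.Modules)
    [F.IsQuasicoherent] : Epi ((Scheme.Modules.pullbackPushforwardAdjunction f).counit.app F) := by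
  refine Ega2Proj.epi_counit_of_spanOn f F fun z => ?_
  obtain ⟨_, ⟨W, hW, rfl⟩, hzW, -⟩ :=
    Z.isBasis_affineOpens.exists_subset_of_mem_open (Set.mem_univ (f z)) isOpen_univ
  refine ⟨W, hzW, ?_⟩
  have := Ega2Proj.span_germ_of_affine (F := F) (hW.preimage f)
    (S := (Set.univ : Set Γ(F, f ⁻¹ᵁ W))) Submodule.span_univ (x := z) hzW
  rwa [Set.image_univ] at this

variable {A : Type u} [CommRing A] [IsNoetherianRing A] {X : Scheme.{u}}
  [X.Over (Spec (CommRingCat.of A))] [IsProper (X ↘ Spec (CommRingCat.of A))]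
  {B : Type u} [CommRing B] [Algebra A B] {X' : Scheme.{u}}
  [X'.Over (Spec (CommRingCat.of B))] {p : X' ⟶ X}
  (sq : IsPullback p (X' ↘ Spec (CommRingCat.of B)) (X ↘ Spec (CommRingCat.of A))
    (Spec.map (CommRingCat.ofHom (algebraMap A B))))

include sq

/-- `p_* p^* ω` represents `F ↦ Hom_A(H^d(X, F), B)` for flat `B`. -/
theorem isIso_desc [Module.Flat A B] {d : ℕ} {ω : X.Modules} {tr : Coh.HH X ω d →ₗ[A] A}
    (hω : Canon.IsRDualOver A X d ω tr) {N : X.Modules} {γ : Coh.HH X N d →ₗ[A] B}
    (hN : Coh.IsQCoh N)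
    (hb : ∀ F : X.Modules, Coh.IsQCoh F →
      Function.Bijective fun φ : F ⟶ N => γ.comp (Canon.HHlin A φ d))
    (h : B → (ω ⟶ N)) (hh : ∀ b x, γ (CohC3.hmap A (h b) d x) = algebraMap A B (tr x) * b)
    (g : TT p ω ⟶ N) (hg : ∀ b : B, eps p ω b ≫ g = h b) : IsIso g := by
  classical
  haveI : AlgebraicGeometry.IsNoetherian X := CohC3.isNoetherian_of_finiteType A X
  haveI : ω.IsQuasicoherent := hω.1
  haveI : N.IsQuasicoherent := hN
  haveI : IsAffineHom p := MorphismProperty.of_isPullback sq.flip inferInstance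
  haveI := QCohMod.isQCoh_pullback_obj p ω
  haveI : (TT p ω).IsQuasicoherent :=
    QCohMod.isQCoh_pushforward (Y := X) ((Scheme.Modules.pullback p).obj ω) p
  obtain ⟨ι, hι, V, hV, hcov⟩ := DualMod.exists_cover X
  have hmem : ∀ x, ∃ i, x ∈ V i := fun x => TopologicalSpace.Opens.mem_iSup.1
    (hcov ▸ (trivial : x ∈ (⊤ : X.Opens)))
  refine Ega2Proj.isIso_of_affine_cover g V hV hcov fun i => ⟨?_, fun s => ?_⟩
  · refine (injective_iff_map_eq_zero _).mpr fun z hz => ?_
    letI : Module A Γ(ω, V i) := Module.compHom _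
      (((X ↘ Spec (CommRingCat.of A)).appLE ⊤ (V i) le_top).hom.comp
        (Scheme.ΓSpecIso (CommRingCat.of A)).inv.hom)
    obtain ⟨Φ, hΦ⟩ := exists_sections_equiv sq ω (hV i)
    obtain ⟨w, rfl⟩ := Φ.surjective z
    obtain ⟨n, b, s, rfl⟩ : ∃ (n : ℕ) (b : Fin n → B) (s : Fin n → Γ(ω, V i)),
        ∑ j, b j ⊗ₜ[A] s j = w := by
      obtain ⟨S, hS⟩ := TensorProduct.exists_finset w
      refine ⟨S.card, fun j => (S.equivFin.symm j).1.1, fun j => (S.equivFin.symm j).1.2, ?_⟩
      rw [hS, ← S.sum_coe_sort (fun q => q.1 ⊗ₜ[A] q.2)]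
      exact S.equivFin.symm.sum_comp (fun q : S => q.1.1 ⊗ₜ[A] q.1.2)
    obtain ⟨G₀, a, _, hG₀, ha⟩ := CohTwo.exists_coh_sub ω V hV hmem
      fun j => if e : j = i then e ▸ Finset.univ.image s else ∅
    choose t ht using fun j => ha i (s j) (by simp)
    let M : Fin n → X.Modules := fun _ => G₀
    have hG : Coh.IsCoh (∐ M) := PnCoh.isCoh_sigma M fun _ => hG₀
    haveI := hG.1
    let φ : Fin n → (∐ M ⟶ ω) := fun j => Sigma.desc fun l => if l = j then a else 0
    let e : ∐ M ⟶ N := ∑ j, φ j ≫ h (b j)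
    let T : Γ(∐ M, V i) := ∑ l, (Sigma.ι M l).app (V i) (t l)
    have hφT : ∀ j, (φ j).app (V i) T = s j := fun j => by
      simp only [T, map_sum]
      rw [Finset.sum_eq_single j]
      · change (Sigma.ι M j ≫ φ j).app (V i) (t j) = s j
        simp only [φ, Sigma.ι_desc, if_pos]
        exact ht j
      · intro l _ hl
        change (Sigma.ι M l ≫ φ j).app (V i) (t l) = 0
        simp only [φ, Sigma.ι_desc, if_neg hl]
        rfl
      · simp
    have happ : ∀ (P : X.Modules) (q : Fin n → (∐ M ⟶ P)) (x : Γ(∐ M, V i)),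
        (∑ j, q j).app (V i) x = ∑ j, (q j).app (V i) x := fun P q x =>
      map_sum (AddMonoidHom.mk' (fun ψ : ∐ M ⟶ P => ψ.app (V i) x) fun _ _ => rfl) q _
    have heT : e.app (V i) T = 0 := by
      refine (happ N _ T).trans ?_
      rw [← hz, map_sum, map_sum]
      refine Finset.sum_congr rfl fun j _ => ?_
      rw [hΦ]
      change (h (b j)).app (V i) ((φ j).app (V i) T) = (eps p ω (b j) ≫ g).app (V i) (s j)
      rw [hg, hφT]
    obtain ⟨T', hT'⟩ := QCohMod.exists_app_eq_of_mono_exact
      (S := ShortComplex.mk (kernel.ι e) e (kernel.condition e))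
      (ShortComplex.exact_of_f_is_kernel _ (kernelIsKernel e)) (V i) T heT
    have hK : Coh.IsCoh (kernel e) := QCohMod.isCoh_kernel e hG
    haveI : Module.Finite A (Coh.HH X (kernel e) d) := CohC3.finite_HH_of_proper A X hK d
    let ψ : Fin n → (kernel e ⟶ ω) := fun j => kernel.ι e ≫ φ j
    let f : Coh.HH X (kernel e) d →ₗ[A] (Fin n → A) :=
      LinearMap.pi fun j => tr.comp (Canon.HHlin A (ψ j) d)
    have hf : (Fintype.linearCombination A b).comp f = 0 := LinearMap.ext fun x => by
      have h0 : ∑ j, ψ j ≫ h (b j) = 0 := by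
        simp only [ψ, Category.assoc, ← Preadditive.comp_sum]
        exact kernel.condition e
      have h1 : γ (CohC3.hmap A (∑ j, ψ j ≫ h (b j)) d x) = 0 := by
        rw [h0, CohC3.hmap_zero, map_zero]
      refine Eq.trans ?_ h1
      let HM : (kernel e ⟶ N) →+ B := AddMonoidHom.mk' (fun q => γ (CohC3.hmap A q d x))
        fun q q' => by rw [hmap_add', map_add]
      change _ = HM (∑ j, ψ j ≫ h (b j))
      rw [map_sum, LinearMap.comp_apply, Fintype.linearCombination_apply]
      refine Finset.sum_congr rfl fun j _ => ?_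
      change tr (CohC3.hmap A (ψ j) d x) • b j = γ (CohC3.hmap A (ψ j ≫ h (b j)) d x)
      refine Eq.trans ?_ (congrArg γ (CohC3.hmap_comp (A := A) (ψ j) (h (b j)) d x))
      rw [hh, Algebra.smul_def]
    obtain ⟨k, π, y, hy, hπ⟩ := Module.Flat.exists_factorization_of_comp_eq_zero_of_free hf
    let c : Fin n → Fin k → A := fun j l => π (Pi.single j 1) l
    have hb' : ∀ j, b j = ∑ l, c j l • y (Finsupp.single l 1) := fun j => by
      have h1 : b j = y (π (Pi.single j 1)) := by
        rw [← LinearMap.comp_apply, ← hy, Fintype.linearCombination_apply_single, one_smul]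
      rw [h1]
      conv_lhs => rw [← Finsupp.univ_sum_single (π (Pi.single j 1))]
      rw [map_sum]
      refine Finset.sum_congr rfl fun l _ => ?_
      rw [← map_smul, Finsupp.smul_single', mul_one]
    have hs : ∀ l, ∑ j, c j l • s j = 0 := fun l => by
      have h0 : ∑ j, ψ j ≫ Formal.smulMod A ω (c j l) = 0 := by
        refine (hω.2 (kernel e) hK.1).1 (LinearMap.ext fun x => ?_)
        change tr (CohC3.hmap A (∑ j, ψ j ≫ Formal.smulMod A ω (c j l)) d x) =
          tr (CohC3.hmap A (0 : kernel e ⟶ ω) d x)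
        rw [CohC3.hmap_zero, map_zero]
        let HM : (kernel e ⟶ ω) →+ A := AddMonoidHom.mk' (fun q => tr (CohC3.hmap A q d x))
          fun q q' => by rw [hmap_add', map_add]
        change HM (∑ j, ψ j ≫ Formal.smulMod A ω (c j l)) = 0
        rw [map_sum]
        have h2 : π (f x) l = 0 := by
          rw [← LinearMap.comp_apply, hπ]
          rfl
        refine Eq.trans ?_ h2
        conv_rhs => rw [pi_eq_sum_univ' (f x)]
        rw [map_sum, Finsupp.finset_sum_apply]
        refine Finset.sum_congr rfl fun j _ => ?_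
        change tr (CohC3.hmap A (ψ j ≫ Formal.smulMod A ω (c j l)) d x) = _
        rw [← CohC3.hmap_comp (A := A), CohC3.hmap_smulMod, map_smul, map_smul,
          Finsupp.smul_apply, smul_eq_mul, smul_eq_mul]
        exact mul_comm _ _
      have h1 : (∑ j, ψ j ≫ Formal.smulMod A ω (c j l)).app (V i) T' = 0 := by rw [h0]; rfl
      refine Eq.trans ?_ h1
      refine Eq.symm ((map_sum (AddMonoidHom.mk' (fun q : kernel e ⟶ ω => q.app (V i) T')
        fun _ _ => rfl) _ _).trans (Finset.sum_congr rfl fun j _ => ?_))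
      change (Formal.smulMod A ω (c j l)).app (V i)
        ((φ j).app (V i) ((kernel.ι e).app (V i) T')) = _
      rw [show (kernel.ι e).app (V i) T' = T from hT', hφT]
      rfl
    have hz0 : ∑ j, b j ⊗ₜ[A] s j = 0 := by
      simp only [hb', TensorProduct.sum_tmul, TensorProduct.smul_tmul]
      rw [Finset.sum_comm]
      simp only [← TensorProduct.tmul_sum, hs, TensorProduct.tmul_zero, Finset.sum_const_zero]
    rw [hz0, map_zero]
  · obtain ⟨G, a, _, hG, ha⟩ := CohTwo.exists_coh_sub N V hV hmem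
      fun j => if e : j = i then e ▸ {s} else ∅
    obtain ⟨t, ht⟩ := ha i s (by simp)
    haveI : Module.Finite A (Coh.HH X G d) := CohC3.finite_HH_of_proper A X hG d
    haveI : Module.FinitePresentation A (Coh.HH X G d) :=
      Module.finitePresentation_of_finite A _
    obtain ⟨k, h₂, h₃, hfac⟩ := Module.Flat.exists_factorization_of_finitePresentation
      (γ.comp (Canon.HHlin A a d))
    choose φ hφ using fun l => (hω.2 G hG.1).2 ((Finsupp.lapply l).comp h₂)
    let b : Fin k → B := fun l => h₃ (Finsupp.single l 1)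
    have ha' : a = ∑ l, φ l ≫ h (b l) := by
      refine (hb G hG.1).1 (LinearMap.ext fun x => ?_)
      change γ (CohC3.hmap A a d x) = γ (CohC3.hmap A (∑ l, φ l ≫ h (b l)) d x)
      let HM : (G ⟶ N) →+ B := AddMonoidHom.mk' (fun q => γ (CohC3.hmap A q d x))
        fun q q' => by rw [hmap_add', map_add]
      change _ = HM (∑ l, φ l ≫ h (b l))
      rw [map_sum]
      refine (LinearMap.congr_fun hfac x).trans ?_
      rw [LinearMap.comp_apply]
      conv_lhs => rw [← Finsupp.univ_sum_single (h₂ x)]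
      rw [map_sum]
      refine Finset.sum_congr rfl fun l _ => ?_
      change _ = γ (CohC3.hmap A (φ l ≫ h (b l)) d x)
      rw [← CohC3.hmap_comp (A := A), hh, ← Algebra.smul_def,
        show tr (CohC3.hmap A (φ l) d x) = h₂ x l from LinearMap.congr_fun (hφ l) x]
      simp only [b, ← map_smul, Finsupp.smul_single', mul_one]
    refine ⟨(∑ l, φ l ≫ eps p ω (b l)).app (V i) t, ?_⟩
    change ((∑ l, φ l ≫ eps p ω (b l)) ≫ g).app (V i) t = s
    rw [Preadditive.sum_comp]
    simp only [Category.assoc, hg]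
    rw [← ha', ht]

/-- Dualizing pairs are stable under flat base change. -/
theorem exists_isRDualOver_pullback [Module.Flat A B] {d : ℕ}
    (hd : ∀ P, topologicalKrullDim ↥((X ↘ Spec (CommRingCat.of A)).fiber P) ≤ (d : WithBot ℕ∞))
    {ω : X.Modules} {tr : Coh.HH X ω d →ₗ[A] A} (hω : Canon.IsRDualOver A X d ω tr) :
    ∃ tr' : Coh.HH X' ((Scheme.Modules.pullback p).obj ω) d →ₗ[B] B,
      Canon.IsRDualOver B X' d ((Scheme.Modules.pullback p).obj ω) tr' := by
  let σ := X ↘ Spec (CommRingCat.of A)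
  let σ' := X' ↘ Spec (CommRingCat.of B)
  haveI : IsAffineHom p := MorphismProperty.of_isPullback sq.flip inferInstance
  haveI : IsProper σ' := MorphismProperty.of_isPullback sq ‹IsProper σ›
  haveI : ω.IsQuasicoherent := hω.1
  haveI hωq' := QCohMod.isQCoh_pullback_obj p ω
  have hT : ∀ (G : X.Modules), G.IsQuasicoherent → Coh.IsQCoh (TT p G) := fun G hG =>
    haveI := QCohMod.isQCoh_pullback_obj p G
    QCohMod.isQCoh_pushforward (Y := X) ((Scheme.Modules.pullback p).obj G) p
  have hd' : ∀ P, topologicalKrullDim ↥(σ'.fiber P) ≤ (d : WithBot ℕ∞) := fun P => by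
    rw [FibreDim.dim_fiber_baseChange σ (Spec.map (CommRingCat.ofHom (algebraMap A B))) σ' p sq]
    exact hd _
  obtain ⟨N, γ, hN, hb⟩ := exists_pairW hd B
  choose h hh using fun b : B => (hb ω hω.1).2
    (((LinearMap.mulRight A b).comp (Algebra.linearMap A B)).comp tr)
  have hh' : ∀ b x, γ (CohC3.hmap A (h b) d x) = algebraMap A B (tr x) * b :=
    fun b x => LinearMap.congr_fun (hh b) x
  obtain ⟨g, hg, -⟩ := exists_desc sq h (fun b c => (hb ω hω.1).1 (LinearMap.ext fun x => by
      change γ (CohC3.hmap A (h (b + c)) d x) = γ (CohC3.hmap A (h b + h c) d x)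
      rw [hmap_add', map_add, hh', hh', hh', mul_add]))
    (fun a b => (hb ω hω.1).1 (LinearMap.ext fun x => by
      change γ (CohC3.hmap A (h (algebraMap A B a * b)) d x) =
        γ (CohC3.hmap A (Formal.smulMod A ω a ≫ h b) d x)
      rw [hmap_smulMod_comp, hh', hh', map_smul, smul_eq_mul, map_mul]
      ring))
  haveI := isIso_desc sq hω hN hb h hh' g hg
  let Φ : ∀ G : X'.Modules, Coh.IsQCoh G →
      (Coh.HH X ((Scheme.Modules.pushforward p).obj G) d ≃+ Coh.HH X' G d) := fun G hG =>
    haveI : G.IsQuasicoherent := hG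
    pushHA p σ σ' G d
  have hΦ : ∀ {G G' : X'.Modules} (hG : Coh.IsQCoh G) (hG' : Coh.IsQCoh G') (φ : G ⟶ G')
      (y : Coh.HH X ((Scheme.Modules.pushforward p).obj G) d),
      Φ G' hG' (CohC3.hmap A ((Scheme.Modules.pushforward p).map φ) d y) =
        CohC3.hmap B φ d (Φ G hG y) := fun {G G'} hG hG' φ y =>
    haveI : G.IsQuasicoherent := hG
    haveI : G'.IsQuasicoherent := hG'
    pushHA_natural p σ σ' φ d y
  have hone : ∀ G : X.Modules, eps p G (1 : B) =
      (Scheme.Modules.pullbackPushforwardAdjunction p).unit.app G := fun G => by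
    change (Scheme.Modules.pullbackPushforwardAdjunction p).unit.app G ≫
      (Scheme.Modules.pushforward p).map (Formal.smulMod B _ 1) = _
    rw [CohC3.smulMod_one, CategoryTheory.Functor.map_id]
    exact Category.comp_id _
  have hΦc : ∀ (G : X.Modules) (hG : Coh.IsQCoh ((Scheme.Modules.pullback p).obj G)) (b : B)
      (x : Coh.HH X G d), Φ _ hG (CohC3.hmap A (eps p G b) d x) =
        b • Φ _ hG (CohC3.hmap A (eps p G (1 : B)) d x) := fun G hG b x => by
    have e1 : ∀ c : B, eps p G c = (Scheme.Modules.pullbackPushforwardAdjunction p).unit.app G ≫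
        (Scheme.Modules.pushforward p).map (Formal.smulMod B _ c) := fun c => rfl
    rw [hone G, e1, ← CohC3.hmap_comp (A := A)]
    exact (hΦ hG hG _ _).trans (CohC3.hmap_smulMod (A := B) _ b d _)
  let Φω := Φ _ hωq'
  let t₀ : Coh.HH X' ((Scheme.Modules.pullback p).obj ω) d →+ B :=
    (γ.toAddMonoidHom.comp (CohC3.hmap A g d).toAddMonoidHom).comp Φω.symm.toAddMonoidHom
  have ht₀ : ∀ y, t₀ (Φω y) = γ (CohC3.hmap A g d y) := fun y => by
    change γ (CohC3.hmap A g d (Φω.symm (Φω y))) = _
    rw [Φω.symm_apply_apply]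
  obtain ⟨L, hL⟩ := exists_L sq ω d
  have hspan : ∀ (G : X.Modules) (hG : G.IsQuasicoherent)
      (hG' : Coh.IsQCoh ((Scheme.Modules.pullback p).obj G))
      (P : Coh.HH X' ((Scheme.Modules.pullback p).obj G) d → Prop), P 0 →
      (∀ (b : B) x, P (b • Φ _ hG' (CohC3.hmap A (eps p G (1 : B)) d x))) →
      (∀ u v, P u → P v → P (u + v)) → ∀ z, P z := by
    intro G hG hG' P h0 h1 h2 z
    obtain ⟨y, rfl⟩ := (Φ _ hG').surjective z
    obtain ⟨L, hL⟩ := exists_L sq G d
    obtain ⟨w, rfl⟩ := (bijective_L sq hd G L hL).2 y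
    induction w using TensorProduct.induction_on with
    | zero => rw [map_zero, map_zero]; exact h0
    | tmul b x => rw [hL, hΦc G hG' b x]; exact h1 b x
    | add u v hu hv => rw [map_add, map_add]; exact h2 _ _ hu hv
  have htb : ∀ b x, t₀ (b • Φω (CohC3.hmap A (eps p ω (1 : B)) d x)) = algebraMap A B (tr x) * b :=
    fun b x => by rw [← hΦc ω hωq' b x, ht₀, CohC3.hmap_comp (A := A), hg, hh']
  let tr' : Coh.HH X' ((Scheme.Modules.pullback p).obj ω) d →ₗ[B] B :=
    { toFun := t₀
      map_add' := map_add t₀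
      map_smul' := fun c z => by
        rw [RingHom.id_apply]
        refine hspan ω inferInstance hωq' (fun z => t₀ (c • z) = c • t₀ z) ?_ ?_ ?_ z
        · simp
        · intro b x
          rw [smul_smul, htb, htb, smul_eq_mul]
          ring
        · intro u v hu hv
          rw [smul_add, map_add, map_add, hu, hv, smul_add] }
  refine ⟨tr', hωq', fun F hF => ?_⟩
  haveI : F.IsQuasicoherent := hF
  -- the duality map on inverse images
  have key : ∀ (G : X.Modules) [G.IsQuasicoherent] (hG' : Coh.IsQCoh ((Scheme.Modules.pullback p).obj G))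
      (ψ : (Scheme.Modules.pullback p).obj G ⟶ (Scheme.Modules.pullback p).obj ω) (x : Coh.HH X G d),
      tr' (CohC3.hmap B ψ d (Φ _ hG' (CohC3.hmap A (eps p G (1 : B)) d x))) =
        γ (CohC3.hmap A (((Scheme.Modules.pullbackPushforwardAdjunction p).homEquiv _ _) ψ ≫ g) d x) := by
    intro G _ hG' ψ x
    rw [← hΦ hG' hωq', Adjunction.homEquiv_unit]
    change t₀ (Φω _) = _
    rw [ht₀, CohC3.hmap_comp (A := A), CohC3.hmap_comp (A := A)]
    rw [hone G]
    rfl
  let G₀ := (Scheme.Modules.pushforward p).obj F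
  haveI hG₀ : G₀.IsQuasicoherent := QCohMod.isQCoh_pushforward (Y := X) F p
  haveI hG₀' := QCohMod.isQCoh_pullback_obj p G₀
  let ε : (Scheme.Modules.pullback p).obj G₀ ⟶ F :=
    (Scheme.Modules.pullbackPushforwardAdjunction p).counit.app F
  haveI : Epi ε := epi_counit_affine p F
  have hinj : ∀ (F : X'.Modules), Coh.IsQCoh F →
      Function.Injective (Canon.dualityMap B X' d ((Scheme.Modules.pullback p).obj ω) tr' F) := by
    intro F hF
    haveI : F.IsQuasicoherent := hF
    haveI hG : ((Scheme.Modules.pushforward p).obj F).IsQuasicoherent :=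
      QCohMod.isQCoh_pushforward (Y := X) F p
    haveI hG' := QCohMod.isQCoh_pullback_obj p ((Scheme.Modules.pushforward p).obj F)
    haveI : Epi ((Scheme.Modules.pullbackPushforwardAdjunction p).counit.app F) :=
      epi_counit_affine p F
    intro φ φ' he
    refine (cancel_epi ((Scheme.Modules.pullbackPushforwardAdjunction p).counit.app F)).1
      (((Scheme.Modules.pullbackPushforwardAdjunction p).homEquiv _ _).injective
        ((cancel_mono g).1 ((hb _ hG).1 (LinearMap.ext fun x => ?_))))
    refine (key _ hG' _ x).symm.trans (Eq.trans ?_ (key _ hG' _ x))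
    simp only [← CohC3.hmap_comp (A := B)]
    exact LinearMap.congr_fun he _
  refine ⟨hinj F hF, fun l => ?_⟩
  obtain ⟨φ₁, hφ₁⟩ := (hb G₀ hG₀).2
    { toFun := fun x => l (CohC3.hmap B ε d (Φ _ hG₀' (CohC3.hmap A (eps p G₀ (1 : B)) d x)))
      map_add' := fun x y => by simp only [map_add]
      map_smul' := fun a x => by
        rw [RingHom.id_apply, Algebra.smul_def, ← smul_eq_mul, ← map_smul l, ← map_smul (CohC3.hmap B ε d),
          ← hΦc, ← hmap_smulMod_comp, eps_smul sq, mul_one] }
  let ψ := ((Scheme.Modules.pullbackPushforwardAdjunction p).homEquiv _ _).symm (φ₁ ≫ inv g)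
  have hψ : ∀ z, tr' (CohC3.hmap B ψ d z) = l (CohC3.hmap B ε d z) := by
    intro z
    refine hspan G₀ hG₀ hG₀' (fun z => tr' (CohC3.hmap B ψ d z) = l (CohC3.hmap B ε d z)) ?_ ?_ ?_ z
    · simp
    · intro b x
      simp only [map_smul]
      congr 1
      rw [key G₀ hG₀' ψ x, Equiv.apply_symm_apply, Category.assoc, IsIso.inv_hom_id,
        Category.comp_id]
      exact LinearMap.congr_fun hφ₁ x
    · intro u v hu hv
      simp only [map_add, hu, hv]
  have hker : kernel.ι ε ≫ ψ = 0 := by
    refine hinj _ (QCohMod.isQCoh_kernel ε) (LinearMap.ext fun z => ?_)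
    change tr' (CohC3.hmap B (kernel.ι ε ≫ ψ) d z) =
      tr' (CohC3.hmap B (0 : kernel ε ⟶ (Scheme.Modules.pullback p).obj ω) d z)
    rw [← CohC3.hmap_comp (A := B), hψ, CohC3.hmap_comp (A := B), kernel.condition,
      CohC3.hmap_zero, CohC3.hmap_zero, map_zero, map_zero]
  let S := ShortComplex.mk (kernel.ι ε) ε (kernel.condition ε)
  have hS : S.ShortExact :=
    { exact := ShortComplex.exact_of_f_is_kernel S (kernelIsKernel ε)
      mono_f := inferInstanceAs (Mono (kernel.ι ε))
      epi_g := ‹Epi ε› }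
  haveI : Epi S.g := ‹Epi ε›
  refine ⟨hS.exact.desc ψ hker, LinearMap.ext fun y => ?_⟩
  have hsurj : Function.Surjective (CohC3.hmap B ε d) := by
    intro y
    have hS' := CohBase.shortExact_toAb hS
    haveI := QCohMod.isQCoh_kernel ε
    have := Groth.Limits.FibreVanishing.subsingleton_HH_of_dim_fiber_le d hd' (kernel ε) (d + 1)
      (Nat.lt_succ_self d)
    exact (EulerDeg.hMap_exact_right (w₀ := (S.map (CohBase.toAbF X')).zero) hS' d y).1
      (@Subsingleton.elim _ this _ _)
  obtain ⟨z, rfl⟩ := hsurj y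
  change tr' (CohC3.hmap B (hS.exact.desc ψ hker) d (CohC3.hmap B ε d z)) = _
  rw [CohC3.hmap_comp (A := B), show ε ≫ hS.exact.desc ψ hker = ψ from hS.exact.g_desc ψ hker, hψ]

end Groth.Duality.FlatBCPair
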